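import Groth.Agent.Lib.Flattening.Transfer

/-!
# Flatness over a chart of the test base, read over a local ring of it
-/

set_option autoImplicit false
universe u

open TensorProduct FlatCA IsLocalRing

namespace GrothLib.FlatSubsetHens1

attribute [local instance] Algebra.TensorProduct.rightAlgebra

/-- Flatness at a prime over a localization of the base is flatness over the base. -/
theorem flatAt_base_localization {W A' C L : Type u} [CommRing W] [CommRing A'] [CommRing C] [Algebra W A'] [Algebra W C]
    [Algebra A' C] [IsScalarTower W A' C] (S : Submonoid W) [IsLocalization S A'] [AddCommGroup L] [Module C L]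
    [Module W L] [Module A' L] [IsScalarTower W C L] [IsScalarTower A' C L] [IsScalarTower W A' L]
    (Q : Ideal C) [Q.IsPrime] : FlatAt W Q L ↔ FlatAt A' Q L := by
  haveI : IsScalarTower W A' (LocalizedModule Q.primeCompl L) := IsScalarTower.of_algebraMap_smul fun w z => by
    induction z using LocalizedModule.induction_on with
    | h m s => rw [LocalizedModule.smul'_mk, LocalizedModule.smul'_mk, algebraMap_smul]
  exact (Module.flat_iff_of_isLocalization A' S _).symm

set_option maxHeartbeats 1600000 in
/-- Flatness at the points over `p` and `q` in a chart, read on the tensor model over the local ring at `p`. -/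
theorem chart_iff {R W S B A' : Type u} [CommRing R] [CommRing W] [CommRing S] [CommRing B] [CommRing A']
    [Algebra R W] [Algebra R S] [Algebra R B] [Algebra W B] [Algebra S B] [IsScalarTower R W B] [IsScalarTower R S B]
    [Algebra.IsPushout R W S B] (p : Ideal W) [p.IsPrime] [Algebra W A'] [Algebra R A'] [IsScalarTower R W A']
    [IsLocalRing A'] [IsLocalization.AtPrime A' p] [SMulCommClass S W B]
    (N : Type u) [AddCommGroup N] [Module S N] (q : Ideal S) :
    (∀ (P : Ideal B) [P.IsPrime], P.comap (algebraMap W B) = p → P.comap (algebraMap S B) = q →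
      Module.Flat W (LocalizedModule P.primeCompl (B ⊗[S] N))) ↔
    ∀ (Q : Ideal (A' ⊗[R] S)) [Q.IsPrime], Q.comap (algebraMap S (A' ⊗[R] S)) = q →
      Q.comap (algebraMap A' (A' ⊗[R] S)) = maximalIdeal A' → FlatAt A' Q ((A' ⊗[R] S) ⊗[S] N) := by
  let C := A' ⊗[R] S
  let ψ : B →ₐ[W] C := (Algebra.TensorProduct.map (Algebra.ofId W A') (AlgHom.id R S)).comp
    (Algebra.IsPushout.equiv R W S B).symm.toAlgHom
  letI : Algebra B C := ψ.toRingHom.toAlgebra
  haveI : IsScalarTower W B C := IsScalarTower.of_algebraMap_eq fun w => (ψ.commutes w).symm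
  haveI : IsScalarTower S B C := IsScalarTower.of_algebraMap_eq fun s => by
    show _ = ψ (algebraMap S B s)
    show (1 : A') ⊗ₜ[R] s = Algebra.TensorProduct.map (Algebra.ofId W A') (AlgHom.id R S)
      ((Algebra.IsPushout.equiv R W S B).symm (algebraMap S B s))
    rw [Algebra.IsPushout.equiv_symm_algebraMap_right, Algebra.TensorProduct.map_tmul, map_one]
    rfl
  haveI : IsScalarTower R B C := IsScalarTower.of_algebraMap_eq fun r => by
    rw [IsScalarTower.algebraMap_apply R W B, ← IsScalarTower.algebraMap_apply W B C,
      IsScalarTower.algebraMap_apply R A' C, IsScalarTower.algebraMap_apply R W A']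
    rfl
  haveI : Algebra.IsPushout R A' S C := inferInstance
  haveI hpo : Algebra.IsPushout W A' B C :=
    (Algebra.IsPushout.comp_iff (R := R) (S := W) (R' := S) (S' := B)).1 inferInstance
  haveI : Algebra.IsPushout W B A' C := hpo.symm
  let M := Algebra.algebraMapSubmonoid B p.primeCompl
  haveI : IsLocalization M C := (Algebra.isLocalization_iff_isPushout p.primeCompl A').2 inferInstance
  let NB := B ⊗[S] N
  let NC := C ⊗[S] N
  haveI : SMulCommClass S W C := ⟨fun a b x => by simp [Algebra.smul_def, mul_left_comm]⟩
  haveI : IsScalarTower W B NB := TensorProduct.isScalarTower_left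
  haveI : IsScalarTower W C NC := TensorProduct.isScalarTower_left
  haveI : IsScalarTower A' C NC := TensorProduct.isScalarTower_left
  haveI : IsScalarTower B C NC := TensorProduct.isScalarTower_left
  haveI : IsScalarTower S B NC := TensorProduct.isScalarTower_left
  haveI : IsScalarTower W B NC := TensorProduct.isScalarTower_left
  haveI : IsScalarTower W A' NC := TensorProduct.isScalarTower_left
  have hι : IsBaseChange B (TensorProduct.mk S B N 1) := TensorProduct.isBaseChange S N B
  let h : NB →ₗ[B] NC := hι.lift (TensorProduct.mk S C N 1)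
  have hh : IsBaseChange C h := hι.of_comp (h := h) (by
    rw [show (h : NB →ₗ[S] NC) ∘ₗ TensorProduct.mk S B N 1 = TensorProduct.mk S C N 1 from hι.lift_comp _]
    exact TensorProduct.isBaseChange S N C)
  haveI : IsLocalizedModule M h := (isLocalizedModule_iff_isBaseChange M C h).2 hh
  have key : ∀ (Q : Ideal C) [Q.IsPrime],
      FlatAt A' Q NC ↔ FlatAt W (Q.comap (algebraMap B C)) NB := fun Q _ =>
    (flatAt_base_localization p.primeCompl Q).symm.trans (Flattening.flatAt_localization_iff M h Q)
  constructor
  · intro H Q _ hS hA
    refine (key Q).2 (H _ ?_ ?_)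
    · rw [Ideal.comap_comap, ← IsScalarTower.algebraMap_eq W B C, IsScalarTower.algebraMap_eq W A' C,
        ← Ideal.comap_comap, hA]
      exact IsLocalization.AtPrime.comap_maximalIdeal A' p
    · rw [Ideal.comap_comap, ← IsScalarTower.algebraMap_eq S B C]
      exact hS
  · intro H P hP hW hS
    have hd : Disjoint (M : Set B) ↑P := by
      rw [Set.disjoint_left]
      rintro _ ⟨w, hw, rfl⟩ hwP
      exact hw (hW ▸ Ideal.mem_comap.2 hwP)
    let Q := P.map (algebraMap B C)
    haveI : Q.IsPrime := IsLocalization.isPrime_of_isPrime_disjoint M C P hP hd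
    have hQ : Q.comap (algebraMap B C) = P := IsLocalization.comap_map_of_isPrime_disjoint M C hP hd
    have h1 := H Q (by rw [IsScalarTower.algebraMap_eq S B C, ← Ideal.comap_comap, hQ, hS]) ?_
    · have h2 := (key Q).1 h1
      simp only [hQ] at h2
      exact h2
    · have h3 : (Q.comap (algebraMap A' C)).comap (algebraMap W A') = p := by
        rw [Ideal.comap_comap, ← IsScalarTower.algebraMap_eq W A' C, IsScalarTower.algebraMap_eq W B C,
          ← Ideal.comap_comap, hQ, hW]
      rw [← IsLocalization.map_comap p.primeCompl A' (Q.comap (algebraMap A' C)), Ideal.under_def, h3,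
        IsLocalization.AtPrime.map_eq_maximalIdeal p A']

end GrothLib.FlatSubsetHens1
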