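import Groth.Agent.Lib.FlatSubsetHens1.Alg
import Groth.Agent.Lib.FlatFP.PullbackFlat
import Groth.Agent.Lib.FlatLimit.Stage

/-!
# Flatness at the points over a pair of points, read on a chart
-/

set_option autoImplicit false
set_option backward.isDefEq.respectTransparency false
universe u

open CategoryTheory CategoryTheory.Limits AlgebraicGeometry Opposite TopologicalSpace TensorProduct IsLocalRing

namespace GrothLib.FlatSubsetHens1

attribute [local instance] Algebra.TensorProduct.rightAlgebra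

set_option maxHeartbeats 1600000 in
/-- Flatness of a base change at the points over `x` and `t`, on the tensor model over the local ring at `t`. -/
theorem point_iff {X Y T : Scheme.{u}} (f : X ⟶ Y) (F : X.Modules) [F.IsQuasicoherent] {V₀ : Y.Opens}
    (hV₀ : IsAffineOpen V₀) {U : X.Opens} (hU : IsAffineOpen U) (eU : U ≤ f ⁻¹ᵁ V₀) {x : X} (hxU : x ∈ U)
    (g : T ⟶ Y) (t : T) (ht : t ∈ g ⁻¹ᵁ V₀) :
    letI : Algebra Γ(Y, V₀) Γ(X, U) := (f.appLE V₀ U eU).hom.toAlgebra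
    letI : Algebra Γ(Y, V₀) (T.presheaf.stalk t) :=
      ((T.presheaf.germ (g ⁻¹ᵁ V₀) t ht).hom.comp (g.app V₀).hom).toAlgebra
    (∀ x' : ↑(pullback f g), (pullback.snd f g).base x' = t → (pullback.fst f g).base x' = x →
      FlatMod.IsFlatOverAt (pullback.snd f g) ((Scheme.Modules.pullback (pullback.fst f g)).obj F) x') ↔
    ∀ (Q : Ideal (T.presheaf.stalk t ⊗[Γ(Y, V₀)] Γ(X, U))) [Q.IsPrime],
      Q.comap (algebraMap Γ(X, U) (T.presheaf.stalk t ⊗[Γ(Y, V₀)] Γ(X, U))) = WeakAss.primeAt x hxU →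
      Q.comap (algebraMap (T.presheaf.stalk t) (T.presheaf.stalk t ⊗[Γ(Y, V₀)] Γ(X, U))) =
        maximalIdeal (T.presheaf.stalk t) →
      FlatCA.FlatAt (T.presheaf.stalk t) Q
        ((T.presheaf.stalk t ⊗[Γ(Y, V₀)] Γ(X, U)) ⊗[Γ(X, U)] Γ(F, U)) := by
  letI : Algebra Γ(Y, V₀) Γ(X, U) := (f.appLE V₀ U eU).hom.toAlgebra
  letI : Algebra Γ(Y, V₀) (T.presheaf.stalk t) :=
    ((T.presheaf.germ (g ⁻¹ᵁ V₀) t ht).hom.comp (g.app V₀).hom).toAlgebra
  obtain ⟨V, hV, htV, eV⟩ := exists_isAffineOpen_mem_and_subset ht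
  have sq := IsPullback.of_hasPullback f g
  let p := pullback.fst f g
  let r := pullback.snd f g
  let P := p ⁻¹ᵁ U ⊓ r ⁻¹ᵁ V
  have hP : IsAffineOpen P := FlatLimit.isAffineOpen_square sq eV eU hV₀ hV hU
  letI : Algebra Γ(Y, V₀) Γ(T, V) := (g.appLE V₀ V eV).hom.toAlgebra
  letI : Algebra Γ(T, V) Γ(pullback f g, P) := (r.appLE V P inf_le_right).hom.toAlgebra
  letI : Algebra Γ(X, U) Γ(pullback f g, P) := (p.appLE U P inf_le_left).hom.toAlgebra
  letI : Algebra Γ(Y, V₀) Γ(pullback f g, P) :=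
    ((algebraMap Γ(T, V) Γ(pullback f g, P)).comp (algebraMap Γ(Y, V₀) Γ(T, V))).toAlgebra
  haveI : IsScalarTower Γ(Y, V₀) Γ(T, V) Γ(pullback f g, P) := IsScalarTower.of_algebraMap_eq' rfl
  haveI : IsScalarTower Γ(Y, V₀) Γ(X, U) Γ(pullback f g, P) := IsScalarTower.of_algebraMap_eq' (by
    show (r.appLE V P inf_le_right).hom.comp (g.appLE V₀ V eV).hom =
      (p.appLE U P inf_le_left).hom.comp (f.appLE V₀ U eU).hom
    rw [← CommRingCat.hom_comp, ← CommRingCat.hom_comp, Scheme.Hom.appLE_comp_appLE, Scheme.Hom.appLE_comp_appLE]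
    congr 2
    exact sq.w.symm)
  haveI : Algebra.IsPushout Γ(Y, V₀) Γ(T, V) Γ(X, U) Γ(pullback f g, P) :=
    FlatLimit.isPushout_square sq eV eU hV₀ hV hU rfl rfl rfl rfl
  haveI : SMulCommClass Γ(X, U) Γ(T, V) Γ(pullback f g, P) :=
    ⟨fun a b z => by rw [Algebra.smul_def, Algebra.smul_def, Algebra.smul_def, Algebra.smul_def, mul_left_comm]⟩
  letI : Algebra Γ(T, V) (T.presheaf.stalk t) := (T.presheaf.germ V t htV).hom.toAlgebra
  haveI : IsScalarTower Γ(Y, V₀) Γ(T, V) (T.presheaf.stalk t) := IsScalarTower.of_algebraMap_eq fun a => by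
    show T.presheaf.germ (g ⁻¹ᵁ V₀) t ht (g.app V₀ a) = T.presheaf.germ V t htV (g.appLE V₀ V eV a)
    exact (TopCat.Presheaf.germ_res_apply T.presheaf (homOfLE eV) t htV _).symm
  haveI : IsLocalization.AtPrime (T.presheaf.stalk t) (WeakAss.primeAt t htV) :=
    FlatFP.isLocalization_stalk_primeAt hV htV
  refine Iff.trans ?_ (chart_iff (B := Γ(pullback f g, P)) (WeakAss.primeAt t htV) Γ(F, U) (WeakAss.primeAt x hxU))
  constructor
  · intro H Q hQ hW hS
    obtain ⟨z, hz, rfl⟩ := AssPts.exists_point hP Q hQ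
    refine (FlatFP.isFlatOverAt_pullback_iff r p F hU hV hP inf_le_left inf_le_right hz rfl rfl).1 (H z ?_ ?_)
    · exact AssPts.primeAt_injective hV hz.2 htV ((AssPts.comap_primeAt r inf_le_right hz).symm.trans hW)
    · exact AssPts.primeAt_injective hU hz.1 hxU ((AssPts.comap_primeAt p inf_le_left hz).symm.trans hS)
  · intro H z hzt hzx
    have hz : z ∈ P := ⟨show p z ∈ U from hzx.symm ▸ hxU, show r z ∈ V from hzt.symm ▸ htV⟩
    refine (FlatFP.isFlatOverAt_pullback_iff r p F hU hV hP inf_le_left inf_le_right hz rfl rfl).2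
      (H _ ((AssPts.comap_primeAt r inf_le_right hz).trans ?_) ((AssPts.comap_primeAt p inf_le_left hz).trans ?_))
    · subst hzt; rfl
    · subst hzx; rfl

end GrothLib.FlatSubsetHens1
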